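import Cfsg.Agent.H657.PRational
import Cfsg.Agent.H634.Cols

/-!
# S4791 + S4927, D1J (helper185): Brauer's permutation lemma on a block

`sum_le_fixed`: `κ` prime to `|G|`, `κ ≡ 1` modulo the `p'`-part of `|G|`; `Y` a set of pairwise non-conjugate `p`-elements with
`y ^ κ = y`. The number of the members of the block `B` which are fixed by `χ ↦ (g ↦ χ (g ^ κ))` is at least the sum over `Y` of the
dimensions of the restrictions of `B` to the `p`-sections. (The proof of `H657.blockRank_le_fixed` with more fixed columns.)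
-/

set_option autoImplicit false

namespace Cfsg.Agent.H185.XR

open Cfsg IsLocalRing Module Cfsg.Agent.H608.BlockRank Cfsg.Agent.Blocks.Basic Cfsg.Agent.Blocks.Local
open Cfsg.Agent.H657

attribute [local instance] Above.isAlgClosed

section main

variable {G : Type*} [Group G] [Finite G] {p : ℕ} {M : Ideal AlgInt}

open Classical in
/-- **Brauer's permutation lemma.** -/
theorem sum_le_fixed (hM : IsPModular p M) {B : Set (IrrCharacter G)} (hB : IsPBlock M B)
    {κ : ℕ} (hκ : Nat.Coprime κ (Nat.card G))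
    (hκ1 : κ ≡ 1 [MOD Nat.card G / p ^ (Nat.card G).factorization p]) (Y : Finset G)
    (hY : ∀ y ∈ Y, ∃ k : ℕ, orderOf y = p ^ k) (hcl : ∀ y ∈ Y, ∀ z ∈ Y, IsConj y z → y = z)
    (hfix : ∀ y ∈ Y, y ^ κ = y) :
    ∑ y ∈ Y, finrank ℂ ((charSpan B).map (secMap p y (Subgroup.centralizer ({y} : Set G)))) ≤
      Nat.card {χ : IrrCharacter G // χ ∈ B ∧ ∀ g : G, (χ : G → ℂ) (g ^ κ) = (χ : G → ℂ) g} := by
  have hFp : Fact p.Prime := ⟨hM.1⟩
  have hp : p.Prime := hM.1
  have hMp := isPrime_of_isPModular hM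
  obtain ⟨V, hV⟩ := exists_above hM
  have : CharP (ResidueField V) p := hV.charP hM
  have := Fintype.ofFinite G
  have := Characters.Core.finite_irr (G := G)
  have := Fintype.ofFinite (IrrCharacter G)
  obtain ⟨X, hYX, hX, hXrep⟩ := H634.Cols.exists_reps (p := p) Y hY hcl
  obtain ⟨κ', hκ'⟩ := exists_inverse hκ
  have hBU := isUnion_of_isPBlock hB
  -- the power map preserves the span of `B`
  have hirr : ∀ χ : IrrCharacter G, IsIrrCharacter G (fun g => (χ : G → ℂ) (g ^ κ)) :=
    fun χ => Characters.GaloisIrr.isIrr_pow hκ χ.2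
  have hmemB : ∀ χ ∈ B, (⟨_, hirr χ⟩ : IrrCharacter G) ∈ B := by
    intro χ hχ
    refine hBU χ _ ?_ hχ
    refine Blocks.PRegular.sameBlock_of_isPRegular hM χ.2 (hirr χ) fun g hg => ?_
    have h1 : centralChar (χ : G → ℂ) g - centralChar (fun g => (χ : G → ℂ) (g ^ κ)) g = 0 := by
      rw [centralChar_def, centralChar_def, pow_eq_of_isPRegular hκ1 hg, one_pow, sub_self]
    rw [h1]
    exact memLocalIdeal_zero
  set W := charSpan B with hW
  have hTW : ∀ θ ∈ W, powMap κ θ ∈ W := by
    intro θ hθ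
    have hle : W ≤ W.comap (powMap κ) := by
      rw [hW]
      conv_lhs => unfold charSpan
      rw [Submodule.span_le]
      rintro _ ⟨χ, hχ, rfl⟩
      exact Submodule.subset_span ⟨_, hmemB χ hχ, rfl⟩
    exact hle hθ
  let T : W →ₗ[ℂ] W := (powMap κ).restrict hTW
  have hT : ∀ θ : W, ((T θ : W) : G → ℂ) = fun g => (θ : G → ℂ) (g ^ κ) := fun θ => rfl
  -- first basis
  have hne : Nonempty B := by
    obtain ⟨χ, hχ⟩ := isPBlock_nonempty hB
    exact ⟨⟨χ, hχ⟩⟩
  have : Fintype B := Fintype.ofFinite _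
  have hli1 : LinearIndependent ℂ (fun χ : B => (⟨(χ : IrrCharacter G), Submodule.subset_span
      ⟨χ, χ.2, rfl⟩⟩ : W)) := by
    refine LinearIndependent.of_comp W.subtype ?_
    exact (Characters.Core.irr_linearIndependent (G := G)).comp _ Subtype.val_injective
  let b1 := basisOfLinearIndependentOfCardEqFinrank hli1 (by
    rw [hW, finrank_charSpan, Nat.card_eq_fintype_card])
  have hb1 : ∀ χ : B, ((b1 χ : W) : G → ℂ) = ((χ : IrrCharacter G) : G → ℂ) := by
    intro χ
    rw [show b1 χ = _ from congrFun (coe_basisOfLinearIndependentOfCardEqFinrank hli1 _) χ]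
  let s1 : B → B := fun χ => ⟨⟨_, hirr χ⟩, hmemB χ χ.2⟩
  have htr1 := S0860.trace_of_perm b1 T s1 (fun χ => by
    apply Subtype.ext
    rw [hT, hb1, hb1])
  -- second basis
  have hex : ∀ x : X, ∃ S : Set (IBr V (Subgroup.centralizer ({(x : G)} : Set G))),
      W.map (secMap p (x : G) (Subgroup.centralizer ({(x : G)} : Set G))) =
        Submodule.span ℂ (phi p '' S) := fun x => exists_secMap hM hV hB (hX x x.2)
  choose S hS using hex
  have : ∀ x : X, Fintype (S x) := fun x => Fintype.ofFinite _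
  let J := Σ x : X, S x
  have hexF : ∀ j : J, ∃ θ : W, IsSec p (j.1 : G) (phi p (j.2 : IBr V _)) (θ : G → ℂ) := by
    rintro ⟨x, i⟩
    have h1 : phi p (i : IBr V _) ∈ W.map (secMap p (x : G)
        (Subgroup.centralizer ({(x : G)} : Set G))) := by
      rw [hS]
      exact Submodule.subset_span ⟨i, i.2, rfl⟩
    obtain ⟨θ, hθ, hθ'⟩ := h1
    refine ⟨⟨cut p (x : G) θ, cut_mem hM hBU _ hθ⟩, ?_, ?_, ?_⟩
    · exact cut_isClassFunction (charSpan_isClassFunction hθ)
    · exact fun g hg => cut_of_not hg _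
    · intro y hy
      have hcomm : Commute (x : G) (y : G) :=
        (Subgroup.mem_centralizer_singleton_iff.1 y.2).symm
      show cut p (x : G) θ ((x : G) * (y : G)) = _
      rw [cut_of ((inSection_mul_iff (hX x x.2) hcomm (isPRegular_coe.2 hy)).2 (IsConj.refl _)),
        ← hθ', secMap_of hy]
  choose F hF using hexF
  -- values of the other section maps
  have hsec : ∀ (x : X) (j : J), secMap p (x : G) (Subgroup.centralizer ({(x : G)} : Set G))
      (F j : G → ℂ) = if h : j.1 = x then (fun y => phi p (j.2 : IBr V _)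
        (h ▸ y : Subgroup.centralizer ({(j.1 : G)} : Set G))) else 0 := by
    rintro x ⟨x', i⟩
    funext y
    by_cases h : x' = x
    · subst h
      rw [dif_pos rfl]
      by_cases hy : IsPRegular p y
      · rw [secMap_of hy]
        exact (hF ⟨x', i⟩).val y hy
      · rw [secMap_of_not hy]
        exact (phi_of_not _ hy).symm
    · rw [dif_neg h]
      by_cases hy : IsPRegular p y
      · rw [secMap_of hy]
        refine (hF ⟨x', i⟩).off _ fun hin => h ?_
        have hcomm : Commute (x : G) (y : G) :=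
          (Subgroup.mem_centralizer_singleton_iff.1 y.2).symm
        have h2 := (inSection_mul_iff (hX x x.2) hcomm (isPRegular_coe.2 hy)).1 hin
        exact Subtype.ext (isConj_unique hX hXrep x'.2 x.2 h2)
      · rw [secMap_of_not hy]
        rfl
  have hli2 : LinearIndependent ℂ F := by
    rw [Fintype.linearIndependent_iff]
    rintro a ha ⟨x, i⟩
    have h1 := congrArg (fun θ : W => secMap p (x : G)
      (Subgroup.centralizer ({(x : G)} : Set G)) (θ : G → ℂ)) ha
    simp only [Submodule.coe_zero, map_zero, AddSubmonoidClass.coe_finsetSum, Submodule.coe_smul,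
      map_sum, map_smul] at h1
    rw [Fintype.sum_sigma, Finset.sum_eq_single x] at h1
    · have h2 : ∑ i' : S x, a ⟨x, i'⟩ • phi p i'.1 = 0 := by
        rw [← h1]
        refine Finset.sum_congr rfl fun i' _ => ?_
        rw [hsec, dif_pos rfl]
      have h3 : LinearIndependent ℂ (fun i' : S x => phi p i'.1) :=
        (linearIndependent_phi (V := V) (p := p)).comp _ Subtype.val_injective
      exact Fintype.linearIndependent_iff.1 h3 (fun i' => a ⟨x, i'⟩) h2 i
    · intro x' _ hx'
      refine Finset.sum_eq_zero fun i' _ => ?_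
      rw [hsec, dif_neg hx', smul_zero]
    · intro h
      exact absurd (Finset.mem_univ _) h
  have hcard : Fintype.card J = finrank ℂ W := by
    rw [Fintype.card_sigma, hW, finrank_charSpan, card_eq_sum_finrank hM hBU X hX hXrep]
    rw [← Finset.sum_coe_sort X (fun x => finrank ℂ ↥((charSpan B).map (secMap p x
      (Subgroup.centralizer ({x} : Set G)))))]
    refine Finset.sum_congr rfl fun x _ => ?_
    rw [hS x, finrank_span_phi, Nat.card_eq_fintype_card]
  have hneJ : Nonempty J := by
    rw [← Fintype.card_pos_iff, hcard, hW, finrank_charSpan]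
    exact Nat.card_pos
  let b2 := basisOfLinearIndependentOfCardEqFinrank hli2 hcard
  have hb2 : ∀ j : J, b2 j = F j := fun j =>
    congrFun (coe_basisOfLinearIndependentOfCardEqFinrank hli2 hcard) j
  -- the power map permutes the second basis
  have hperm : ∀ j : J, ∃ j' : J, T (F j) = F j' := by
    rintro ⟨x, i⟩
    set u : G := (x : G) ^ κ' with hu
    have hux : u ^ κ = (x : G) := by
      rw [hu, ← pow_mul, mul_comm, hκ']
    have hup : ∃ k : ℕ, orderOf u = p ^ k := by
      obtain ⟨n, hn⟩ := hX x x.2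
      obtain ⟨m, -, hm⟩ := (Nat.dvd_prime_pow hp).1 (hn ▸ orderOf_pow_dvd κ' : orderOf u ∣ p ^ n)
      exact ⟨m, hm⟩
    obtain ⟨x', ⟨hx'X, hux'⟩, -⟩ := hXrep u hup
    obtain ⟨c, hc⟩ := isConj_iff.1 hux'
    have hcx : c * (x : G) * c⁻¹ = x' ^ κ := by rw [← hux, ← hc, conj_pow]
    have hm1 : ∀ y ∈ Subgroup.centralizer ({(x : G)} : Set G),
        c * y * c⁻¹ ∈ Subgroup.centralizer ({x'} : Set G) := by
      intro y hy
      rw [Subgroup.mem_centralizer_singleton_iff] at hy ⊢
      have h1 : y * u = u * y := by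
        have : Commute y (x : G) := hy
        exact (this.pow_right κ').eq
      rw [← hc]
      calc c * y * c⁻¹ * (c * u * c⁻¹) = c * (y * u) * c⁻¹ := by group
        _ = c * (u * y) * c⁻¹ := by rw [h1]
        _ = c * u * c⁻¹ * (c * y * c⁻¹) := by group
    have hm2 : ∀ y ∈ Subgroup.centralizer ({x'} : Set G),
        c⁻¹ * y * c ∈ Subgroup.centralizer ({(x : G)} : Set G) := by
      intro y hy
      rw [Subgroup.mem_centralizer_singleton_iff] at hy ⊢
      have h1 : (c⁻¹ * y * c) * u = u * (c⁻¹ * y * c) := by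
        have h2 : u = c⁻¹ * x' * c := by rw [← hc]; group
        rw [h2]
        calc c⁻¹ * y * c * (c⁻¹ * x' * c) = c⁻¹ * (y * x') * c := by group
          _ = c⁻¹ * (x' * y) * c := by rw [hy]
          _ = c⁻¹ * x' * c * (c⁻¹ * y * c) := by group
      have h3 : Commute (c⁻¹ * y * c) u := h1
      have h4 := (h3.pow_right κ).eq
      rwa [hux] at h4
    let e : Subgroup.centralizer ({(x : G)} : Set G) ≃* Subgroup.centralizer ({x'} : Set G) :=
      { toFun := fun y => ⟨c * y * c⁻¹, hm1 y y.2⟩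
        invFun := fun y => ⟨c⁻¹ * y * c, hm2 y y.2⟩
        left_inv := fun y => Subtype.ext (by
          show c⁻¹ * (c * (y : G) * c⁻¹) * c = y
          group)
        right_inv := fun y => Subtype.ext (by
          show c * (c⁻¹ * (y : G) * c) * c⁻¹ = y
          group)
        map_mul' := fun y z => Subtype.ext (by
          show c * ((y : G) * z) * c⁻¹ = c * y * c⁻¹ * (c * z * c⁻¹)
          group) }
    have he : ∀ y, ((e.symm y : Subgroup.centralizer ({(x : G)} : Set G)) : G) = c⁻¹ * y * c :=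
      fun y => rfl
    have hsecF : IsSec p x' (phi p (IBr.map e (i : IBr V _))) ((T (F ⟨x, i⟩) : W) : G → ℂ) := by
      refine ⟨charSpan_isClassFunction (T (F ⟨x, i⟩)).2, ?_, ?_⟩
      · intro g hg
        rw [hT]
        refine (hF ⟨x, i⟩).off _ fun hin => hg ?_
        have h1 := inSection_pow hin hp κ'
        rw [← pow_mul, hκ'] at h1
        obtain ⟨z, hz, hxz⟩ := h1
        exact ⟨z, hz, hux'.symm.trans hxz⟩
      · intro y hy
        rw [hT, phi_map]
        have hcomm : Commute x' (y : G) :=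
          (Subgroup.mem_centralizer_singleton_iff.1 y.2).symm
        have hyr : (y : G) ^ κ = (y : G) := pow_eq_of_isPRegular hκ1 (isPRegular_coe.2 hy)
        have h1 : IsPRegular p (e.symm y) := by
          unfold IsPRegular
          rw [MulEquiv.orderOf_eq]
          exact hy
        have h2 : (F ⟨x, i⟩ : G → ℂ) ((x' * (y : G)) ^ κ) =
            (F ⟨x, i⟩ : G → ℂ) ((x : G) * ((e.symm y : Subgroup.centralizer ({(x : G)} : Set G)) : G)) := by
          rw [← (hF ⟨x, i⟩).cls ((x : G) * _) c]
          congr 1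
          rw [hcomm.mul_pow, hyr, ← hcx, he]
          group
        show (F ⟨x, i⟩ : G → ℂ) ((x' * (y : G)) ^ κ) = _
        rw [h2, (hF ⟨x, i⟩).val _ h1]
    have hmem : phi p (IBr.map e (i : IBr V _)) ∈ Submodule.span ℂ (phi p '' S ⟨x', hx'X⟩) := by
      rw [← hS]
      refine ⟨_, (T (F ⟨x, i⟩)).2, ?_⟩
      funext y
      by_cases hy : IsPRegular p y
      · rw [secMap_of hy, hsecF.val y hy]
      · rw [secMap_of_not hy, phi_of_not _ hy]
    have hmem' : IBr.map e (i : IBr V _) ∈ S ⟨x', hx'X⟩ := by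
      by_contra hcon
      exact (linearIndependent_phi (V := V) (p := p)).notMem_span_image hcon hmem
    refine ⟨⟨⟨x', hx'X⟩, ⟨_, hmem'⟩⟩, Subtype.ext ?_⟩
    exact hsecF.unique (hF ⟨⟨x', hx'X⟩, ⟨_, hmem'⟩⟩)
  choose s2 hs2 using hperm
  have htr2 := S0860.trace_of_perm b2 T s2 (fun j => by rw [hb2, hb2, hs2])
  -- comparison
  have hcount : Nat.card {χ : B // s1 χ = χ} = Nat.card {j : J // s2 j = j} := by
    have := htr1.symm.trans htr2
    exact_mod_cast this
  have hfix1 : Nat.card {χ : B // s1 χ = χ} ≤ Nat.card {χ : IrrCharacter G // χ ∈ B ∧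
      ∀ g : G, (χ : G → ℂ) (g ^ κ) = (χ : G → ℂ) g} := by
    refine Nat.card_le_card_of_injective (fun χ => ⟨(χ : B), (χ : B).2, fun g => ?_⟩) ?_
    · have h1 := congrArg (fun ψ : B => ((ψ : IrrCharacter G) : G → ℂ) g) χ.2
      exact h1
    · intro χ χ' h
      apply Subtype.ext
      apply Subtype.ext
      exact congrArg (fun z : {χ : IrrCharacter G // χ ∈ B ∧
        ∀ g : G, (χ : G → ℂ) (g ^ κ) = (χ : G → ℂ) g} => z.1) h
  -- the fixed columns
  have hfixJ : ∀ j : J, (j.1 : G) ^ κ = (j.1 : G) → s2 j = j := by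
    intro j hy1
    have hy2 : (j.1 : G) ^ κ' = (j.1 : G) := by
      conv_lhs => rw [← hy1]
      rw [← pow_mul, hκ']
    apply hli2.injective
    rw [← hs2]
    apply Subtype.ext
    have hsecF : IsSec p (j.1 : G) (phi p (j.2 : IBr V _)) ((T (F j) : W) : G → ℂ) := by
      refine ⟨charSpan_isClassFunction (T (F j)).2, ?_, ?_⟩
      · intro g hg
        rw [hT]
        refine (hF j).off _ fun hin => hg ?_
        have h1 := inSection_pow hin hp κ'
        rw [← pow_mul, hκ', hy2] at h1
        exact h1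
      · intro y hy
        rw [hT]
        have hcomm : Commute (j.1 : G) (y : G) :=
          (Subgroup.mem_centralizer_singleton_iff.1 y.2).symm
        have hyr : (y : G) ^ κ = (y : G) := pow_eq_of_isPRegular hκ1 (isPRegular_coe.2 hy)
        show (F j : G → ℂ) (((j.1 : G) * (y : G)) ^ κ) = _
        rw [hcomm.mul_pow, hyr, hy1]
        exact (hF j).val y hy
    exact hsecF.unique (hF j)
  -- the columns over `Y`
  let r : (Σ y : Y, S ⟨(y : G), hYX y.2⟩) → J := fun j => ⟨⟨(j.1 : G), hYX j.1.2⟩, j.2⟩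
  have hr : Function.Injective r := by
    rintro ⟨⟨y, hy⟩, i⟩ ⟨⟨y', hy'⟩, i'⟩ h
    obtain ⟨h2, h3⟩ := Sigma.mk.inj h
    have h4 : y = y' := congrArg Subtype.val h2
    subst h4
    have h5 : i = i' := eq_of_heq h3
    subst h5
    rfl
  have hfix2 : Nat.card (Σ y : Y, S ⟨(y : G), hYX y.2⟩) ≤ Nat.card {j : J // s2 j = j} :=
    Nat.card_le_card_of_injective (fun j => (⟨r j, hfixJ (r j) (hfix j.1 j.1.2)⟩ : {j : J // s2 j = j}))
      fun j j' h => hr (congrArg Subtype.val h)
  have hsum : ∑ y ∈ Y, finrank ℂ ((charSpan B).map (secMap p y (Subgroup.centralizer ({y} : Set G)))) =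
      Nat.card (Σ y : Y, S ⟨(y : G), hYX y.2⟩) := by
    rw [Nat.card_eq_fintype_card, Fintype.card_sigma]
    rw [← Finset.sum_coe_sort Y (fun y => finrank ℂ ↥((charSpan B).map (secMap p y
      (Subgroup.centralizer ({y} : Set G)))))]
    refine Finset.sum_congr rfl fun y _ => ?_
    rw [hS ⟨(y : G), hYX y.2⟩, finrank_span_phi, Nat.card_eq_fintype_card]
  rw [hsum]
  exact (hfix2.trans hcount.ge).trans hfix1

end main

end Cfsg.Agent.H185.XR
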