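import Cfsg.Agent.H443.XC.Defs
import Cfsg.Agent.H735.S4822.Fix

/-!
# S4791 + S4927, K7 (helper185): automorphisms which act on a Sylow subgroup as inner ones fix the principal block

* `inv_of_hull` : the stub K7 of `tools/plans/S4791_cls.lean`.
-/

set_option autoImplicit false

open Cfsg Subgroup
open Cfsg.Agent.H443.XC

namespace Cfsg.Agent.H185.XR

universe u

variable {p : ℕ} [hp : Fact p.Prime] {M : Ideal AlgInt} {S : Type u} [Group S]

/-- `Inn` is normal -/
theorem mul_conj (φ : MulAut S) (g : S) : φ * MulAut.conj g = MulAut.conj (φ g) * φ := by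
  ext x
  rw [MulAut.mul_apply, MulAut.mul_apply, MulAut.conj_apply, MulAut.conj_apply, map_mul, map_mul, map_inv]

theorem exists_pow (s : S) (α : MulAut S) (k : ℕ) : ∃ t : S, (MulAut.conj s * α) ^ k = MulAut.conj t * α ^ k := by
  induction k with
  | zero => exact ⟨1, by rw [pow_zero, pow_zero, map_one, mul_one]⟩
  | succ k ih =>
    obtain ⟨t, ht⟩ := ih
    refine ⟨t * (α ^ k) s, ?_⟩
    rw [pow_succ, ht, pow_succ α k, map_mul]
    calc MulAut.conj t * α ^ k * (MulAut.conj s * α) = MulAut.conj t * (α ^ k * MulAut.conj s) * α := by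
          simp only [mul_assoc]
      _ = MulAut.conj t * (MulAut.conj ((α ^ k) s) * α ^ k) * α := by rw [mul_conj]
      _ = MulAut.conj t * MulAut.conj ((α ^ k) s) * (α ^ k * α) := by simp only [mul_assoc]

/-- the stabilizer of a function -/
def stab (f : S → ℂ) : Subgroup (MulAut S) where
  carrier := {φ | ∀ x, f (φ x) = f x}
  one_mem' := fun _ => rfl
  mul_mem' := by
    intro φ ψ h1 h2 x
    rw [MulAut.mul_apply, h1, h2]
  inv_mem' := by
    intro φ h x
    have h1 := h (φ⁻¹ x)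
    rw [← MulAut.mul_apply, mul_inv_cancel, MulAut.one_apply] at h1
    exact h1.symm

theorem mem_of_coprime {H : Type*} [Group H] (T : Subgroup H) (b : H) {m n : ℕ} (hmn : m.Coprime n) (h1 : b ^ m ∈ T)
    (h2 : b ^ n ∈ T) : b ∈ T := by
  have h3 := Nat.gcd_eq_gcd_ab m n
  rw [hmn.gcd_eq_one] at h3
  have h4 : b = (b ^ m) ^ (Nat.gcdA m n) * (b ^ n) ^ (Nat.gcdB m n) := by
    rw [← zpow_natCast, ← zpow_natCast, ← zpow_mul, ← zpow_mul, ← zpow_add, ← h3, Nat.cast_one, zpow_one]
  rw [h4]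
  exact mul_mem (zpow_mem h1 _) (zpow_mem h2 _)

/-- **K7**: an automorphism (of order prime to `p` modulo inner ones) which acts on `P` as an inner one fixes the principal
block -/
theorem inv_of_hull [Finite S] (hM : IsPModular p M) (P : Sylow p S) (α : MulAut S) (hα : PrA p α) (s : S)
    (h : ∀ x ∈ (P : Subgroup S), α x = s * x * s⁻¹) (θ : IrrCharacter S) (hθ : θ ∈ principalBlock M S) (x : S) :
    (θ : S → ℂ) (α x) = (θ : S → ℂ) x := by
  obtain ⟨k, hk, s₀, hs₀⟩ := hα
  have hcl := Blocks.Basic.irr_isClassFunction θ.2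
  have hinn : ∀ t : S, MulAut.conj t ∈ stab (θ : S → ℂ) := by
    intro t y
    rw [MulAut.conj_apply]
    exact hcl y t
  set β : MulAut S := MulAut.conj s⁻¹ * α with hβ
  have hβP : ∀ y ∈ (P : Subgroup S), β y = y := by
    intro y hy
    rw [hβ, MulAut.mul_apply, h y hy, MulAut.conj_apply]
    group
  have hn : orderOf β ≠ 0 := (orderOf_pos β).ne'
  -- the `p'`-part
  have h1 : β ^ p ^ (orderOf β).factorization p ∈ stab (θ : S → ℂ) := by
    intro y
    refine H735.S4822.fix_aut hM P _ ?_ ?_ hθ y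
    · rw [orderOf_pow_of_dvd (pow_ne_zero _ hp.out.ne_zero) (Nat.ordProj_dvd _ _)]
      exact Nat.not_dvd_ordCompl hp.out hn
    · intro r hr
      have h2 : β ∈ MulAction.stabilizer (MulAut S) r := hβP r hr
      exact pow_mem h2 _
  -- the inner power
  have h2 : β ^ k ∈ stab (θ : S → ℂ) := by
    obtain ⟨t, ht⟩ := exists_pow s⁻¹ α k
    rw [hβ, ht, hs₀]
    exact mul_mem (hinn t) (hinn s₀)
  have h3 : β ∈ stab (θ : S → ℂ) :=
    mem_of_coprime _ β (Nat.Coprime.pow_left _ ((Nat.Prime.coprime_iff_not_dvd hp.out).2 hk)) h1 h2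
  have h4 : α = MulAut.conj s * β := by
    rw [hβ, ← mul_assoc, ← map_mul, mul_inv_cancel, map_one, one_mul]
  have h5 : α ∈ stab (θ : S → ℂ) := by
    rw [h4]
    exact mul_mem (hinn s) h3
  exact h5 x

end Cfsg.Agent.H185.XR
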