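import Cfsg.Agent.H185.XR.Fix
import Cfsg.Agent.H508.XR.Defs2
import Cfsg.Agent.H832.KB.RankTwo

/-!
# S4791 + S4927, D1J, D6J, D8J (helper185): lower bounds for the number of almost `p`-rational characters in `B₀`

`kJ p M S` : the number of almost `p`-rational characters in the principal block (`H508.XR.Defs2`). `p` odd.

* `sum_le_kJ` (D1J) : elements of order `1` or `p`, pairwise not conjugate;
* `kJ_of_family`, `kJ_of_elt` (D6J, = `kJ_of_one`), `kJ_of_two` (D8J), `kJ_of_one_add`;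
* `kJ_of_elt'` (quotient of the centralizer with cyclic Sylow subgroups), `kJ_of_rank_two'`, `kJ_of_rank_two`.
-/

set_option autoImplicit false

open Cfsg Subgroup
open Cfsg.Agent.H674.XZ Cfsg.Agent.H508.XR

namespace Cfsg.Agent.H185.XR

universe u

variable {p : ℕ} [hp : Fact p.Prime] {M : Ideal AlgInt}

/-- for odd `p` the group `JJ p S` is cyclic -/
theorem isCyclic_JJ (h3 : p ≠ 2) (S : Type u) [Group S] [Finite S] : IsCyclic (JJ p S) := by
  have hd : p ^ (Nat.card S).factorization p ∣ Nat.card S := Nat.ordProj_dvd _ _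
  have hc := ZMod.isCyclic_units_of_prime_pow p hp.out h3 ((Nat.card S).factorization p)
  let f : JJ p S →* (ZMod (p ^ (Nat.card S).factorization p))ˣ := (ZMod.unitsMap hd).comp (JJ p S).subtype
  refine isCyclic_of_injective f ?_
  rw [injective_iff_map_eq_one]
  intro u hu
  have h1 := (mem_JJ (p := p) u.1).1 u.2
  have h2 : ex u.1 ≡ 1 [MOD mp p S] := h1.of_dvd (mp_dvd_dd p S)
  have h4 : ex u.1 ≡ 1 [MOD p ^ (Nat.card S).factorization p] := by
    have h5 : ZMod.unitsMap hd u.1 = 1 := hu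
    rw [Units.ext_iff, ZMod.unitsMap_def, Units.coe_map, Units.val_one, MonoidHom.coe_coe, ← ex_cast,
      map_natCast] at h5
    rw [← ZMod.natCast_eq_natCast_iff, h5, Nat.cast_one]
  have h6 := Nat.ordProj_mul_ordCompl_eq_self (Nat.card S) p
  have h7 : ex u.1 ≡ 1 [MOD p ^ (Nat.card S).factorization p * mp p S] := by
    refine (Nat.modEq_and_modEq_iff_modEq_mul ?_).1 ⟨h4, h2⟩
    exact Nat.Coprime.pow_left _ ((Nat.Prime.coprime_iff_not_dvd hp.out).2 (not_dvd_mp hp.out S))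
  have h8 : ex u.1 ≡ 1 [MOD Nat.card S] := h7.of_dvd (Dvd.intro_left 1 (by rw [one_mul]; exact h6.symm))
  apply Subtype.ext
  apply Units.ext
  have h9 := (ZMod.natCast_eq_natCast_iff _ _ _).2 h8
  rw [Subgroup.coe_one, Units.val_one, ← ex_cast, h9, Nat.cast_one]

/-- a generator of `JJ p S`: the characters fixed by it are almost `p`-rational -/
theorem exists_gen (h3 : p ≠ 2) (S : Type u) [Group S] [Finite S] :
    ∃ u ∈ JJ p S, ∀ χ : IrrCharacter S, pw u χ = χ → Alm p (χ : S → ℂ) := by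
  obtain ⟨u₀, hu₀⟩ := (isCyclic_JJ (p := p) h3 S).exists_generator
  refine ⟨u₀.1, u₀.2, fun χ hχ => ?_⟩
  rw [alm_iff]
  intro u hu
  let _ := gact S
  obtain ⟨n, hn⟩ := mem_zpowers_iff.1 (hu₀ ⟨u, hu⟩)
  have h1 : u₀.1 ∈ MulAction.stabilizer (ZMod (Nat.card S))ˣ χ := hχ
  have h2 : u ∈ MulAction.stabilizer (ZMod (Nat.card S))ˣ χ := by
    have h4 : u₀.1 ^ n = u := congrArg Subtype.val hn
    rw [← h4]
    exact zpow_mem h1 n
  exact h2

/-- **D1J**: elements of order `1` or `p` -/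
theorem sum_le_kJ {S : Type u} [Group S] [Finite S] (h3 : p ≠ 2) (hM : IsPModular p M) (X : Finset S)
    (hX : ∀ x ∈ X, x ^ p = 1) (hcl : ∀ x ∈ X, ∀ y ∈ X, IsConj x y → x = y) :
    ∑ x ∈ X, blockRank p (principalBlock M ↥(centralizer ({x} : Set S))) ≤ kJ p M S := by
  have hMp := Blocks.Local.isPrime_of_isPModular hM
  obtain ⟨u, hu, hχ⟩ := exists_gen (p := p) h3 S
  have h1 := (mem_JJ (p := p) u).1 hu
  have hX' : ∀ x ∈ X, ∃ k : ℕ, orderOf x = p ^ k := by
    intro x hx
    have h2 : orderOf x ∣ p ^ 1 := by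
      rw [pow_one]
      exact orderOf_dvd_of_pow_eq_one (hX x hx)
    obtain ⟨k, -, hk⟩ := (Nat.dvd_prime_pow hp.out).1 h2
    exact ⟨k, hk⟩
  have hfix : ∀ x ∈ X, x ^ ex u = x := by
    intro x hx
    have h2 : orderOf x ∣ dd p S :=
      Nat.dvd_gcd (orderOf_dvd_natCard x) ((orderOf_dvd_of_pow_eq_one (hX x hx)).mul_right _)
    conv_rhs => rw [← pow_one x]
    exact pow_eq_pow_iff_modEq.2 (h1.of_dvd h2)
  have key := sum_le_fixed hM (B := principalBlock M S) Blocks.PrincipalSection.isPBlock_principalBlock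
    (ex_coprime u) (h1.of_dvd (mp_dvd_dd p S)) X hX' hcl hfix
  rw [Finset.sum_congr rfl fun x hx => (H634.Cols.finrank_secMap_principal hM (hX' x hx)).symm]
  refine key.trans ?_
  unfold kJ
  have := Characters.Core.finite_irr (G := S)
  refine Nat.card_le_card_of_injective (fun χ => ⟨χ.1, χ.2.1, hχ χ.1 ((pw_eq_iff u χ.1).2 χ.2.2)⟩) ?_
  intro χ χ' h
  exact Subtype.ext (congrArg
    (fun z : {χ : IrrCharacter S // χ ∈ principalBlock M S ∧ Alm p (χ : S → ℂ)} => z.1) h)

/-- the general form: families `Y i` of elements of order `p` with `b i ≤ l(B₀(C(y)))`, pairwise not conjugate -/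
theorem kJ_of_family {S : Type u} [Group S] [Finite S] (h3 : p ≠ 2) (hM : IsPModular p M) {ι : Type*} (s : Finset ι)
    (Y : ι → Finset S) (b : ι → ℕ) (hY : ∀ i ∈ s, ∀ y ∈ Y i, y ^ p = 1)
    (hb : ∀ i ∈ s, ∀ y ∈ Y i, b i ≤ blockRank p (principalBlock M ↥(centralizer ({y} : Set S))))
    (hcl : ∀ i ∈ s, ∀ j ∈ s, ∀ y ∈ Y i, ∀ z ∈ Y j, IsConj y z → i = j ∧ y = z) (h1 : ∀ i ∈ s, (1 : S) ∉ Y i) :
    ∑ i ∈ s, (Y i).card * b i + blockRank p (principalBlock M S) ≤ kJ p M S := by
  classical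
  have hdisj : (s : Set ι).PairwiseDisjoint Y := by
    intro i hi j hj hij
    rw [Function.onFun, Finset.disjoint_left]
    intro y hyi hyj
    exact hij (hcl i hi j hj y hyi y hyj (IsConj.refl y)).1
  have h1' : (1 : S) ∉ s.biUnion Y := by
    intro h
    obtain ⟨i, hi, h2⟩ := Finset.mem_biUnion.1 h
    exact h1 i hi h2
  have key := sum_le_kJ (S := S) h3 hM (insert 1 (s.biUnion Y)) (by
    intro x hx
    rcases Finset.mem_insert.1 hx with rfl | hx
    · exact one_pow p
    · obtain ⟨i, hi, h2⟩ := Finset.mem_biUnion.1 hx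
      exact hY i hi x h2) (by
    intro x hx y hy hxy
    rcases Finset.mem_insert.1 hx with rfl | hx <;> rcases Finset.mem_insert.1 hy with rfl | hy
    · rfl
    · exact (isConj_one_right.1 hxy).symm
    · exact isConj_one_left.1 hxy
    · obtain ⟨i, hi, h2⟩ := Finset.mem_biUnion.1 hx
      obtain ⟨j, hj, h3⟩ := Finset.mem_biUnion.1 hy
      exact (hcl i hi j hj x h2 y h3 hxy).2)
  rw [Finset.sum_insert h1', Finset.sum_biUnion hdisj] at key
  have h2 : blockRank p (principalBlock M S) ≤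
      blockRank p (principalBlock M ↥(centralizer ({(1 : S)} : Set S))) := by
    apply H296.KB.rank_quot_le hM (centralizer ({(1 : S)} : Set S)).subtype
    intro g
    exact ⟨⟨g, by rw [mem_centralizer_singleton_iff, mul_one, one_mul]⟩, rfl⟩
  have h4 : ∑ i ∈ s, (Y i).card * b i ≤
      ∑ i ∈ s, ∑ y ∈ Y i, blockRank p (principalBlock M ↥(centralizer ({y} : Set S))) := by
    apply Finset.sum_le_sum
    intro i hi
    rw [← smul_eq_mul, ← Finset.sum_const]
    exact Finset.sum_le_sum (hb i hi)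
  omega

/-- the powers of an element of order `p`, with all the information -/
theorem exists_setJ {S : Type u} [Group S] [Finite S] (x : S) (hx : orderOf x = p) (e b : ℕ)
    (hfus : ∀ (g : S) (i : ℕ), g * x * g⁻¹ = x ^ i → (i : ZMod p) ^ e = 1)
    (hb : b ≤ blockRank p (principalBlock M ↥(centralizer ({x} : Set S)))) :
    ∃ Y : Finset S, (p - 1) / e ≤ Y.card ∧ (∀ y ∈ Y, ∃ i : ℕ, ¬ p ∣ i ∧ y = x ^ i) ∧
      (∀ y ∈ Y, ∀ z ∈ Y, IsConj y z → y = z) ∧ (∀ y ∈ Y, y ^ p = 1) ∧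
      (∀ y ∈ Y, b ≤ blockRank p (principalBlock M ↥(centralizer ({y} : Set S)))) ∧ (1 : S) ∉ Y := by
  obtain ⟨Y, h1, h2, h3, h4, h5, h6⟩ := H832.KB.exists_set (M := M) x 1 (by rw [hx, pow_one]) one_ne_zero e b hfus hb
  refine ⟨Y, h1, h2, h3, fun y hy => ?_, h5, h6⟩
  have h7 := h4 y hy
  rw [pow_one] at h7
  rw [← h7, pow_orderOf_eq_one]

/-- one element of order `p`: `(p - 1) / e * l(B₀(C(x))) + l(B₀(S)) ≤ kJ` -/
theorem kJ_of_one {S : Type u} [Group S] [Finite S] (h3 : p ≠ 2) (hM : IsPModular p M) (x : S) (hx : orderOf x = p)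
    (e b : ℕ) (hfus : ∀ (g : S) (i : ℕ), g * x * g⁻¹ = x ^ i → (i : ZMod p) ^ e = 1)
    (hb : b ≤ blockRank p (principalBlock M ↥(centralizer ({x} : Set S)))) :
    (p - 1) / e * b + blockRank p (principalBlock M S) ≤ kJ p M S := by
  obtain ⟨Y, h1, h2, h4, h5, h6, h7⟩ := exists_setJ (M := M) x hx e b hfus hb
  have key := kJ_of_family h3 hM (Finset.univ : Finset Unit) (fun _ => Y) (fun _ => b)
    (fun _ _ y hy => h5 y hy) (fun _ _ => h6) (fun _ _ _ _ y hy z hz h => ⟨rfl, h4 y hy z hz h⟩)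
    (fun _ _ => h7)
  rw [Finset.univ_unique, Finset.sum_singleton] at key
  exact (Nat.add_le_add_right (Nat.mul_le_mul_right _ h1) _).trans key

/-- **D6J** -/
theorem kJ_of_elt {S : Type u} [Group S] [Finite S] (h3 : p ≠ 2) (hM : IsPModular p M) (x : S) (hx : orderOf x = p)
    (e b : ℕ) (hfus : ∀ (g : S) (i : ℕ), g * x * g⁻¹ = x ^ i → (i : ZMod p) ^ e = 1)
    (hb : b ≤ blockRank p (principalBlock M ↥(centralizer ({x} : Set S)))) :
    (p - 1) / e * b + blockRank p (principalBlock M S) ≤ kJ p M S :=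
  kJ_of_one h3 hM x hx e b hfus hb

/-- **D8J**: two elements of order `p` whose powers are not conjugate -/
theorem kJ_of_two {S : Type u} [Group S] [Finite S] (h3 : p ≠ 2) (hM : IsPModular p M) (x x' : S) (hx : orderOf x = p)
    (hx' : orderOf x' = p) (e e' b b' : ℕ)
    (hfus : ∀ (g : S) (i : ℕ), g * x * g⁻¹ = x ^ i → (i : ZMod p) ^ e = 1)
    (hfus' : ∀ (g : S) (i : ℕ), g * x' * g⁻¹ = x' ^ i → (i : ZMod p) ^ e' = 1)
    (hne : ∀ (g : S) (i : ℕ), g * x * g⁻¹ ≠ x' ^ i)
    (hb : b ≤ blockRank p (principalBlock M ↥(centralizer ({x} : Set S))))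
    (hb' : b' ≤ blockRank p (principalBlock M ↥(centralizer ({x'} : Set S)))) :
    (p - 1) / e * b + (p - 1) / e' * b' + blockRank p (principalBlock M S) ≤ kJ p M S := by
  obtain ⟨Y, h1, h2, h4, h5, h6, h7⟩ := exists_setJ (M := M) x hx e b hfus hb
  obtain ⟨Y', h1', h2', h4', h5', h6', h7'⟩ := exists_setJ (M := M) x' hx' e' b' hfus' hb'
  have hcross : ∀ y ∈ Y, ∀ z ∈ Y', ¬ IsConj y z := by
    intro y hy z hz h
    obtain ⟨i, hi, rfl⟩ := h2 y hy
    obtain ⟨j, hj, rfl⟩ := h2' z hz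
    obtain ⟨g, hg⟩ := isConj_iff.1 h
    obtain ⟨m, -, hm⟩ := H832.KB.conj_of_conj_pow (p := p) (k := 1) (by rw [hx, pow_one]) hi hg
    exact hne g _ hm
  have key := kJ_of_family h3 hM (Finset.univ : Finset Bool) (fun t => if t then Y else Y')
    (fun t => if t then b else b') (by
      rintro (_ | _) - y hy
      · exact h5' y hy
      · exact h5 y hy) (by
      rintro (_ | _) - y hy
      · exact h6' y hy
      · exact h6 y hy) (by
      rintro (_ | _) - (_ | _) - y hy z hz h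
      · exact ⟨rfl, h4' y hy z hz h⟩
      · exact absurd h.symm (hcross z hz y hy)
      · exact absurd h (hcross y hy z hz)
      · exact ⟨rfl, h4 y hy z hz h⟩) (by
      rintro (_ | _) -
      · exact h7'
      · exact h7)
  rw [Fintype.sum_bool] at key
  have e1 : (p - 1) / e * b ≤ Y.card * b := Nat.mul_le_mul_right _ h1
  have e2 : (p - 1) / e' * b' ≤ Y'.card * b' := Nat.mul_le_mul_right _ h1'
  simp only [if_true, Bool.false_eq_true, if_false] at key
  omega

/-- one element of order `p` and one more class of elements of order `p` -/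
theorem kJ_of_one_add {S : Type u} [Group S] [Finite S] (h3 : p ≠ 2) (hM : IsPModular p M) (x : S) (hx : orderOf x = p)
    (e b : ℕ) (hfus : ∀ (g : S) (i : ℕ), g * x * g⁻¹ = x ^ i → (i : ZMod p) ^ e = 1)
    (hb : b ≤ blockRank p (principalBlock M ↥(centralizer ({x} : Set S))))
    (z : S) (hz : z ^ p = 1) (hz1 : z ≠ 1) (b' : ℕ)
    (hb' : b' ≤ blockRank p (principalBlock M ↥(centralizer ({z} : Set S)))) (hzx : ∀ i : ℕ, ¬ IsConj z (x ^ i)) :
    (p - 1) / e * b + b' + blockRank p (principalBlock M S) ≤ kJ p M S := by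
  obtain ⟨Y, h1, h2, h4, h5, h6, h7⟩ := exists_setJ (M := M) x hx e b hfus hb
  have hcross : ∀ y ∈ Y, ¬ IsConj z y := by
    intro y hy
    obtain ⟨i, -, rfl⟩ := h2 y hy
    exact hzx i
  have key := kJ_of_family h3 hM (Finset.univ : Finset Bool) (fun t => if t then Y else {z})
    (fun t => if t then b else b') (by
      rintro (_ | _) - y hy
      · obtain rfl := Finset.mem_singleton.1 hy
        exact hz
      · exact h5 y hy) (by
      rintro (_ | _) - y hy
      · obtain rfl := Finset.mem_singleton.1 hy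
        exact hb'
      · exact h6 y hy) (by
      rintro (_ | _) - (_ | _) - y hy w hw h
      · exact ⟨rfl, (Finset.mem_singleton.1 hy).trans (Finset.mem_singleton.1 hw).symm⟩
      · obtain rfl := Finset.mem_singleton.1 hy
        exact absurd h (hcross w hw)
      · obtain rfl := Finset.mem_singleton.1 hw
        exact absurd h.symm (hcross y hy)
      · exact ⟨rfl, h4 y hy w hw h⟩) (by
      rintro (_ | _) -
      · intro h
        exact hz1 (Finset.mem_singleton.1 h).symm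
      · exact h7)
  rw [Fintype.sum_bool] at key
  have e1 : (p - 1) / e * b ≤ Y.card * b := Nat.mul_le_mul_right _ h1
  simp only [if_true, Bool.false_eq_true, if_false, Finset.card_singleton] at key
  omega

/-- a quotient of the centralizer with cyclic Sylow subgroups -/
theorem kJ_of_elt' {S : Type u} [Group S] [Finite S] (h3 : p ≠ 2) (hM : IsPModular p M) (x : S) (hx : orderOf x = p)
    (e : ℕ) (hfus : ∀ (g : S) (i : ℕ), g * x * g⁻¹ = x ^ i → (i : ZMod p) ^ e = 1)
    {Q : Type u} [Group Q] [Finite Q] (φ : ↥(centralizer ({x} : Set S)) →* Q) (hφ : Function.Surjective φ)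
    (P : Sylow p Q) (hP : IsCyclic (P : Subgroup Q)) (y c : Q) (hy : y ≠ 1) (k : ℕ) (hyk : orderOf y = p ^ k) (j : ℕ)
    (hc : c * y * c⁻¹ = y ^ j) :
    (p - 1) / e * orderOf (j : ZMod p) + blockRank p (principalBlock M S) ≤ kJ p M S :=
  kJ_of_one h3 hM x hx e _ hfus (H832.KB.rank_of_quot hM φ hφ P hP y c hy k hyk j hc)

/-- one more class -/
theorem kJ_of_elt_add {S : Type u} [Group S] [Finite S] (h3 : p ≠ 2) (hM : IsPModular p M) (x : S) (hx : orderOf x = p)
    (e : ℕ) (hfus : ∀ (g : S) (i : ℕ), g * x * g⁻¹ = x ^ i → (i : ZMod p) ^ e = 1)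
    {Q : Type u} [Group Q] [Finite Q] (φ : ↥(centralizer ({x} : Set S)) →* Q) (hφ : Function.Surjective φ)
    (P : Sylow p Q) (hP : IsCyclic (P : Subgroup Q)) (y c : Q) (hy : y ≠ 1) (k : ℕ) (hyk : orderOf y = p ^ k) (j : ℕ)
    (hc : c * y * c⁻¹ = y ^ j) (z : S) (hz : z ^ p = 1) (hz1 : z ≠ 1) (hzx : ∀ i : ℕ, ¬ IsConj z (x ^ i)) :
    (p - 1) / e * orderOf (j : ZMod p) + 1 + blockRank p (principalBlock M S) ≤ kJ p M S :=
  kJ_of_one_add h3 hM x hx e _ hfus (H832.KB.rank_of_quot hM φ hφ P hP y c hy k hyk j hc) z hz hz1 1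
    (H296.KB.one_le_rank hM) hzx

/-- Sylow subgroups of rank 2: `x` of order `p`, `x`, `y` generate a Sylow subgroup; `c` centralizes `x` and acts on `y` -/
theorem kJ_of_rank_two' {S : Type u} [Group S] [Finite S] (h3 : p ≠ 2) (hM : IsPModular p M) (P : Sylow p S) (x y : S)
    (hxy : Commute x y) (hP : (P : Subgroup S) = closure {x, y}) (hx : orderOf x = p) (hy : y ∉ zpowers x)
    (e : ℕ) (hfus : ∀ (g : S) (i : ℕ), g * x * g⁻¹ = x ^ i → (i : ZMod p) ^ e = 1)
    (c : S) (hcx : Commute c x) (j : ℕ) (hc : c * y * c⁻¹ = y ^ j) :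
    (p - 1) / e * orderOf (j : ZMod p) + blockRank p (principalBlock M S) ≤ kJ p M S :=
  kJ_of_one h3 hM x hx e _ hfus (H832.KB.rank_of_rank_two hM P x y hxy hP hy c hcx j hc)

end Cfsg.Agent.H185.XR
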